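import Cfsg.Agent.Lib.Linear.SquareScalar
import Cfsg.Agent.Lib.Linear.SLBasic
import Cfsg.Agent.Lib.Linear.PrimeCriteria
import Cfsg.Agent.Lib.Linear.PrimeClasses.LinearReal
import Cfsg.Agent.Lib.Linear.IsotropicFix.UnitaryPair
import Cfsg.Prelude.Def_GeometricClasses

/-!
# Elements of prime order in `SL_n(q)` against classical subgroups: common tools

Passing from conjugacy in `GL` to conjugacy in `SL`, test elements (diagonal, transvections, single
Frobenius orbits), diagonal forms in prime dimension, and index bounds.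
-/

set_option autoImplicit false

universe u

namespace Cfsg.Lib.Linear.FormClass

open Matrix Cfsg.Agent.Lib.Linear.PrimeClasses

variable {F : Type u} [Field F] {n : ℕ}

local notation "GLn" => GL (Fin n) F
local notation "Mn" => Matrix (Fin n) (Fin n) F

theorem sl_iff (g : GLn) : g ∈ Cfsg.Geo.specialLinear (Fin n) F ↔ g.val.det = 1 := by
  rw [Cfsg.Geo.specialLinear, MonoidHom.mem_ker, ← Units.val_eq_one, Matrix.GeneralLinearGroup.val_det_apply]

/-- Conjugacy in `GL` becomes conjugacy in `SL` when the centraliser has every determinant. -/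
theorem upgrade (x g : GLn) (H : Subgroup GLn)
    (hC : ∀ δ : F, δ ≠ 0 → ∃ C : Mn, C * x.val = x.val * C ∧ C.det = δ) (hg : g⁻¹ * x * g ∈ H) :
    ∃ g' ∈ Cfsg.Geo.specialLinear (Fin n) F, g'⁻¹ * x * g' ∈ H := by
  have hd : g.val.det ≠ 0 := (Matrix.GeneralLinearGroup.det g).ne_zero
  obtain ⟨C, hCx, hCd⟩ := hC (g.val.det)⁻¹ (inv_ne_zero hd)
  let c : GLn := Matrix.GeneralLinearGroup.mkOfDetNeZero C (by rw [hCd]; exact inv_ne_zero hd)
  have hcx : Commute c x := Units.ext hCx
  refine ⟨c * g, (sl_iff _).2 ?_, ?_⟩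
  · show (C * g.val).det = 1
    rw [Matrix.det_mul, hCd, inv_mul_cancel₀ hd]
  · have e : (c * g)⁻¹ * x * (c * g) = g⁻¹ * x * g := by
      rw [_root_.mul_inv_rev, mul_assoc, mul_assoc, ← mul_assoc x, ← hcx.eq, mul_assoc c, inv_mul_cancel_left,
        ← mul_assoc]
    rwa [e]

/-- The centraliser of a matrix with scalar square has every determinant. -/
theorem centralizer_two [Finite F] (hn : 0 < n) (x : GLn) {z : F} (hz : z ≠ 0) (hx : x.val * x.val = z • 1)
    (δ : F) : ∃ C : Mn, C * x.val = x.val * C ∧ C.det = δ := by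
  obtain ⟨C, hC, hcomm⟩ := Cfsg.Lib.Linear.SquareScalar.centralizer_det (by rwa [Module.finrank_fin_fun])
    (Matrix.toLin' x.val) hz (fun v => by
      rw [Matrix.toLin'_apply, Matrix.toLin'_apply, Matrix.mulVec_mulVec, hx, Matrix.smul_mulVec, Matrix.one_mulVec]) δ
  refine ⟨LinearMap.toMatrix' C, ?_, by rw [LinearMap.det_toMatrix', hC]⟩
  refine Matrix.toLin'.injective (LinearMap.ext fun v => ?_)
  simpa [Matrix.toLin'_mul] using hcomm v

/-- The centraliser of a diagonalisable matrix has every determinant. -/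
theorem centralizer_diag (hn : 0 < n) (x P : GLn) (d : Fin n → F) (hx : x.val * P.val = P.val * Matrix.diagonal d)
    (δ : F) : ∃ C : Mn, C * x.val = x.val * C ∧ C.det = δ := by
  classical
  let w : Fin n → F := Function.update 1 ⟨0, hn⟩ δ
  refine ⟨P.val * Matrix.diagonal w * (P⁻¹).val, ?_, ?_⟩
  · have hx' : (P⁻¹).val * x.val = Matrix.diagonal d * (P⁻¹).val := by
      calc (P⁻¹).val * x.val = (P⁻¹).val * (x.val * P.val) * (P⁻¹).val := by
            rw [mul_assoc, mul_assoc, Units.mul_inv, mul_one]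
        _ = Matrix.diagonal d * (P⁻¹).val := by rw [hx, ← mul_assoc, Units.inv_mul, one_mul]
    have hc : Matrix.diagonal w * Matrix.diagonal d = Matrix.diagonal d * Matrix.diagonal w := by
      rw [Matrix.diagonal_mul_diagonal, Matrix.diagonal_mul_diagonal]
      exact congrArg _ (funext fun i => mul_comm _ _)
    rw [mul_assoc, hx', ← mul_assoc, mul_assoc P.val, hc]
    simp only [← mul_assoc]
    rw [hx]
  · rw [Matrix.det_mul, Matrix.det_mul, Matrix.det_diagonal, Finset.prod_update_of_mem (Finset.mem_univ _)]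
    have h1 := congrArg Matrix.det (Units.mul_inv P)
    rw [Matrix.det_mul, Matrix.det_one] at h1
    simp only [Pi.one_apply, Finset.prod_const_one, mul_one]
    linear_combination δ * h1

/-- A diagonal test element. -/
theorem diag_witness {r : ℕ} (d : Fin n → F) (hd : ∏ j, d j = 1) {z : F} (hz : ∀ j, d j ^ r = z)
    {i j : Fin n} (hij : d i ≠ d j) :
    ∃ x ∈ Cfsg.Geo.specialLinear (Fin n) F,
      (∃ z : F, ((x ^ r : GLn) : Mn) = z • (1 : Mn)) ∧ (∀ z : F, x.val ≠ z • (1 : Mn)) ∧ x.val = Matrix.diagonal d := by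
  have hdet : (Matrix.diagonal d).det = 1 := by rw [Matrix.det_diagonal, hd]
  have hne : (Matrix.diagonal d).det ≠ 0 := hdet.symm ▸ one_ne_zero
  refine ⟨Matrix.GeneralLinearGroup.mkOfDetNeZero _ hne, (sl_iff _).2 hdet,
    ⟨z, ?_⟩, fun w hw => ?_, rfl⟩
  · rw [Units.val_pow_eq_pow_val]
    show Matrix.diagonal d ^ r = _
    rw [Matrix.diagonal_pow, Matrix.smul_one_eq_diagonal]
    exact congrArg _ (funext hz)
  · change Matrix.diagonal d = w • 1 at hw
    have e1 := congrFun (congrFun hw i) i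
    have e2 := congrFun (congrFun hw j) j
    simp at e1 e2
    exact hij (e1.trans e2.symm)

theorem transvection_pow {i j : Fin n} (hij : i ≠ j) (c : F) (k : ℕ) :
    Matrix.transvection i j c ^ k = Matrix.transvection i j ((k : F) * c) := by
  induction k with
  | zero => simp
  | succ k ih => rw [pow_succ, ih, Matrix.transvection_mul_transvection_same _ _ hij, Nat.cast_succ, add_mul, one_mul]

/-- A transvection of order the characteristic. -/
theorem transvection_witness (p : ℕ) [CharP F p] {i j : Fin n} (hij : i ≠ j) :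
    ∃ x ∈ Cfsg.Geo.specialLinear (Fin n) F, x ^ p = 1 ∧
      (∀ z : F, x.val ≠ z • (1 : Mn)) ∧ x.val = Matrix.transvection i j 1 := by
  have hdet : (Matrix.transvection i j (1 : F)).det = 1 := Matrix.det_transvection_of_ne i j hij 1
  have hne : (Matrix.transvection i j (1 : F)).det ≠ 0 := hdet.symm ▸ one_ne_zero
  refine ⟨Matrix.GeneralLinearGroup.mkOfDetNeZero _ hne, (sl_iff _).2 hdet,
    Units.ext ?_, fun w hw => ?_, rfl⟩
  · rw [Units.val_pow_eq_pow_val]
    show Matrix.transvection i j (1 : F) ^ p = _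
    rw [transvection_pow hij, CharP.cast_eq_zero F p, zero_mul, Matrix.transvection_zero]; rfl
  · change Matrix.transvection i j 1 = w • 1 at hw
    have e := congrFun (congrFun hw i) j
    simp [Matrix.transvection, hij] at e

theorem root_one [Fintype F] {r : ℕ} [Fact r.Prime] (h : ¬ r ∣ Fintype.card F - 1) {c : F} (hc : c ^ r = 1) : c = 1 := by
  by_contra h1
  refine h ?_
  rw [← orderOf_eq_prime hc h1]
  exact orderOf_dvd_of_pow_eq_one (FiniteField.pow_card_sub_one_eq_one c fun h0 => by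
    rw [h0, zero_pow (Fact.out : r.Prime).ne_zero] at hc; exact zero_ne_one hc)

/-- In prime dimension `r`, with `r` dividing `q - 1` exactly once, elements of order `r` modulo scalars split. -/
theorem exists_diag_prime [Fintype F] {r : ℕ} [Fact r.Prime] (hnr : n = r) (hr2 : r ≠ 2)
    (hv : padicValNat r (Fintype.card F - 1) = 1) (x : GLn) (hx : x.val.det = 1) {z : F} (hz : x.val ^ r = z • 1) :
    ∃ (P : GLn) (d : Fin n → F), x.val * P.val = P.val * Matrix.diagonal d ∧ ∀ j, d j ^ r = 1 := by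
  classical
  have hr : r.Prime := Fact.out
  haveI : NeZero n := ⟨hnr ▸ hr.ne_zero⟩
  have hdvd : r ∣ Fintype.card F - 1 := dvd_of_one_le_padicValNat (by omega)
  have he : orderOf (Fintype.card F : ZMod r) = 1 := Cfsg.Lib.Linear.PrimeCriteria.dvd_sub_one_iff.2 hdvd
  have hrF : (r : F) ≠ 0 := by
    intro h0
    obtain ⟨k, hk⟩ := CharP.exists F
    haveI : Fact k.Prime := ⟨CharP.char_is_prime F k⟩
    obtain ⟨e, -, he'⟩ := FiniteField.card F k
    have hkr : r = k := ((Nat.prime_dvd_prime_iff_eq Fact.out hr).1 ((CharP.cast_eq_zero_iff F k r).1 h0)).symm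
    have h1 : r ∣ Fintype.card F := by rw [he', hkr]; exact dvd_pow_self _ e.ne_zero
    have h2 := Nat.dvd_sub h1 hdvd
    rw [Nat.sub_sub_self Fintype.card_pos] at h2
    exact hr.one_lt.ne' (Nat.dvd_one.1 h2)
  obtain ⟨ι, hι, f, hfm, ⟨Ψ, hΨ⟩, hsum, hcases⟩ :=
    Cfsg.Lib.Linear.PrimeCriteria.split_cases (NeZero.ne n) hrF (⟨x.val, hx⟩ : Matrix.SpecialLinearGroup (Fin n) F) hz
  rcases hcases with hdeg | ⟨-, -, -, hbad⟩
  swap
  · exact absurd ⟨by rw [hnr, padicValNat_self, hv], fun h => absurd h hr2⟩ hbad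
  have hf1 : ∀ i, (f i).natDegree = 1 := fun i => (hdeg i).elim id fun h => h.trans he
  have hroot : ∀ i, ∃ c : F, AdjoinRoot.root (f i) = algebraMap F _ c := fun i => by
    refine ⟨-(f i).coeff 0, ?_⟩
    have h1 : f i = Polynomial.X + Polynomial.C ((f i).coeff 0) := by
      conv_lhs => rw [(hfm i).eq_X_add_C (hf1 i)]
    have h2 := AdjoinRoot.mk_self (f := f i)
    conv_lhs at h2 => arg 2; rw [h1]
    rw [map_add, AdjoinRoot.mk_X, AdjoinRoot.mk_C, add_eq_zero_iff_eq_neg] at h2
    rw [h2, AdjoinRoot.algebraMap_eq, map_neg]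
  choose c hc using hroot
  let b := (Pi.basis fun i => (AdjoinRoot.powerBasis' (hfm i)).basis).map Ψ.symm
  have hcard : Fintype.card (Σ i, Fin (AdjoinRoot.powerBasis' (hfm i)).dim) = Fintype.card (Fin n) := by
    simp only [Fintype.card_sigma, Fintype.card_fin, AdjoinRoot.powerBasis'_dim]
    exact hsum
  let E := Fintype.equivOfCardEq hcard
  let β := b.reindex E
  have heig : ∀ a, x.val *ᵥ b a = c a.1 • b a := by
    rintro ⟨i, k⟩
    refine Ψ.injective (funext fun j => ?_)
    have h1 : Ψ (b ⟨i, k⟩) = Pi.single i ((AdjoinRoot.powerBasis' (hfm i)).basis k) := by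
      simp only [b, Module.Basis.map_apply, LinearEquiv.apply_symm_apply, Pi.basis_apply]
    rw [hΨ, map_smul, h1, Pi.smul_apply, hc j]
    rcases eq_or_ne j i with rfl | hji
    · rw [Pi.single_eq_same, Algebra.smul_def]
    · rw [Pi.single_eq_of_ne hji, mul_zero, smul_zero]
  let d : Fin n → F := fun j => c (E.symm j).1
  let P : Mn := Matrix.of fun a j => β j a
  have hPd : P.det ≠ 0 := by
    have h1 : P = (Pi.basisFun F (Fin n)).toMatrix β := by
      ext a j; simp [P, Module.Basis.toMatrix_apply]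
    rw [h1]
    haveI := (Pi.basisFun F (Fin n)).invertibleToMatrix β
    exact (Matrix.isUnit_det_of_invertible _).ne_zero
  let P' : GLn := Matrix.GeneralLinearGroup.mkOfDetNeZero P hPd
  have hxP : x.val * P'.val = P'.val * Matrix.diagonal d := by
    ext a j
    show (x.val * P) a j = (P * Matrix.diagonal d) a j
    rw [Matrix.mul_diagonal]
    have h1 := congrFun (heig (E.symm j)) a
    simp only [Pi.smul_apply, smul_eq_mul, Matrix.mulVec, dotProduct] at h1
    simp only [Matrix.mul_apply, P, β, Matrix.of_apply, Module.Basis.reindex_apply, d]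
    rw [h1, mul_comm]
  refine ⟨P', d, hxP, ?_⟩
  have hpow : ∀ k : ℕ, x.val ^ k * P'.val = P'.val * Matrix.diagonal d ^ k := by
    intro k
    induction k with
    | zero => simp
    | succ k ih => rw [pow_succ, mul_assoc, hxP, ← mul_assoc, ih, mul_assoc, ← pow_succ]
  have hdr : ∀ j, d j ^ r = z := fun j => by
    have h1 := hpow r
    rw [hz, smul_mul_assoc, one_mul, Matrix.diagonal_pow] at h1
    have h2 : z • (1 : Mn) = Matrix.diagonal (d ^ r) := by
      calc z • (1 : Mn) = (P'⁻¹).val * (z • P'.val) := by rw [mul_smul_comm, Units.inv_mul]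
        _ = _ := by rw [h1, ← mul_assoc, Units.inv_mul, one_mul]
    have h3 := congrFun (congrFun h2 j) j
    simpa using h3.symm
  have hz1 : z ^ r = 1 := by
    have h1 := congrArg Matrix.det hz
    rw [Matrix.det_pow, hx, one_pow, Matrix.det_smul, Matrix.det_one, mul_one, Fintype.card_fin, hnr] at h1
    exact h1.symm
  intro j
  have h2 : d j ^ (r * r) = 1 := by rw [pow_mul, hdr, hz1]
  have h3 : orderOf (d j) ∣ r * r := orderOf_dvd_of_pow_eq_one h2
  have h4 : orderOf (d j) ∣ Fintype.card F - 1 :=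
    orderOf_dvd_of_pow_eq_one (FiniteField.pow_card_sub_one_eq_one _ fun h0 => by
      rw [h0, zero_pow (Nat.mul_ne_zero hr.ne_zero hr.ne_zero)] at h2; exact zero_ne_one h2)
  obtain ⟨k, hk, hk'⟩ := (Nat.dvd_prime_pow hr).1 (by rwa [← pow_two] at h3 : orderOf (d j) ∣ r ^ 2)
  rw [← orderOf_dvd_iff_pow_eq_one, hk']
  have hk1 : k ≤ 1 := by
    by_contra hk2
    have hF := Fintype.one_lt_card (α := F)
    have := (padicValNat_dvd_iff_le (p := r) (by omega : Fintype.card F - 1 ≠ 0)).1 (hk' ▸ h4)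
    omega
  calc r ^ k ∣ r ^ 1 := pow_dvd_pow r hk1
    _ = r := pow_one r

theorem relIndex_mul {G : Type*} [Group G] (H K : Subgroup G) :
    H.relIndex K * Nat.card ↥(H ⊓ K) = Nat.card ↥K := by
  rw [← (H.subgroupOf K).index_mul_card, Subgroup.relIndex]
  congr 1
  rw [← Subgroup.inf_subgroupOf_right]
  exact Nat.card_congr (Subgroup.subgroupOfEquivOfLe (inf_le_right : H ⊓ K ≤ K)).symm.toEquiv

theorem card_specialLinear :
    Nat.card ↥(Cfsg.Geo.specialLinear (Fin n) F) = Nat.card (Matrix.SpecialLinearGroup (Fin n) F) :=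
  Nat.card_congr
    { toFun := fun g => ⟨g.1.val, (sl_iff _).1 g.2⟩
      invFun := fun g => ⟨Matrix.SpecialLinearGroup.toGL g, (sl_iff _).2 g.2⟩
      left_inv := fun _ => Subtype.ext (Units.ext rfl)
      right_inv := fun _ => Subtype.ext rfl }

/-- The order of `SL_n(q)`. -/
theorem card_sl_int [Fintype F] (hn : 1 ≤ n) : ∃ E : ℕ,
    ((Fintype.card F : ℤ) - 1) * (Nat.card ↥(Cfsg.Geo.specialLinear (Fin n) F) : ℤ) =
      (Fintype.card F : ℤ) ^ E * ∏ i ∈ Finset.range n, ((Fintype.card F : ℤ) ^ (i + 1) - 1) := by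
  refine ⟨∑ i : Fin n, (i : ℕ), ?_⟩
  have h := congrArg (Nat.cast : ℕ → ℤ) (Cfsg.Lib.Linear.card_SL_mul (F := F) n hn)
  push_cast [Nat.cast_sub Fintype.card_pos] at h
  rw [card_specialLinear, ← Finset.prod_pow_eq_pow_sum, ← Fin.prod_univ_eq_prod_range]
  have hr : ∏ i : Fin n, ((Fintype.card F : ℤ) ^ ((i : ℕ) + 1) - 1) =
      ∏ i : Fin n, ((Fintype.card F : ℤ) ^ (n - (i : ℕ)) - 1) := by
    refine Fintype.prod_equiv Fin.revPerm _ _ fun i => ?_
    rw [Fin.revPerm_apply, Fin.val_rev, show n - (n - ((i : ℕ) + 1)) = (i : ℕ) + 1 by omega]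
  rw [hr, ← Finset.prod_mul_distrib]
  refine (by simpa using h : _ = _).trans (Finset.prod_congr rfl fun i _ => ?_)
  rw [Nat.cast_sub (Nat.pow_le_pow_right Fintype.card_pos i.2.le)]
  push_cast
  rw [mul_sub, ← pow_add, Nat.add_sub_cancel' i.2.le, mul_one]

/-- A subgroup carrying a group with determinants `±1`. -/
theorem card_dvd_two_mul {Γ : Type*} [Group Γ] [Finite F] (φ : Γ →* GLn) (hφ : Function.Injective φ)
    (H : Subgroup GLn) (hH : ∀ g, φ g ∈ H) (hd : ∀ g, (φ g).val.det * (φ g).val.det = 1) :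
    Nat.card Γ ∣ 2 * Nat.card ↥(H ⊓ Cfsg.Geo.specialLinear (Fin n) F) := by
  let δ : Γ →* Fˣ := Matrix.GeneralLinearGroup.det.comp φ
  rw [← δ.ker.index_mul_card, Subgroup.index_ker]
  refine Nat.mul_dvd_mul ?_ ?_
  · have hle : δ.range ≤ Subgroup.zpowers (-1 : Fˣ) := by
      rintro _ ⟨g, rfl⟩
      rcases mul_self_eq_one_iff.1 (hd g) with h | h
      · rw [show δ g = 1 from Units.ext h]; exact one_mem _
      · rw [show δ g = -1 from Units.ext h]; exact Subgroup.mem_zpowers _
    refine (Subgroup.card_dvd_of_le hle).trans ?_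
    rw [Nat.card_zpowers]
    exact orderOf_dvd_of_pow_eq_one (Units.ext (by simp))
  · exact Subgroup.card_dvd_of_injective
      ((φ.comp δ.ker.subtype).codRestrict (H ⊓ Cfsg.Geo.specialLinear (Fin n) F)
        fun g => Subgroup.mem_inf.2 ⟨hH g.1, g.2⟩)
      fun g g' h => Subtype.ext (hφ (congrArg Subtype.val h))

theorem orderOf_le_of_dvd_sl [Fintype F] (hn : 1 ≤ n) {r : ℕ} [Fact r.Prime] (hrq : ¬ r ∣ Fintype.card F)
    (h : r ∣ (Fintype.card F - 1) * Nat.card ↥(Cfsg.Geo.specialLinear (Fin n) F)) :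
    orderOf (Fintype.card F : ZMod r) ≤ n := by
  obtain ⟨E, hE⟩ := card_sl_int (F := F) hn
  have h0 := (ZMod.natCast_eq_zero_iff _ r).2 h
  have h1 := congrArg (Int.cast : ℤ → ZMod r) hE
  rw [Nat.cast_mul, Nat.cast_sub Fintype.card_pos, Nat.cast_one] at h0
  push_cast at h1
  rw [h0] at h1
  rcases mul_eq_zero.1 h1.symm with h2 | h2
  · exact absurd ((ZMod.natCast_eq_zero_iff _ _).1 (eq_zero_of_pow_eq_zero h2)) hrq
  · obtain ⟨i, hi, h3⟩ := Finset.prod_eq_zero_iff.1 h2
    have := orderOf_le_of_pow_eq_one (by omega : 0 < i + 1) (sub_eq_zero.1 h3)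
    have := Finset.mem_range.1 hi
    omega

/-- A multiplicity function supported on one Frobenius orbit and at zero. -/
theorem orbit_fun {r : ℕ} [Fact r.Prime] (u : (ZMod r)ˣ) (k a : ℕ) :
    Inv u (orderOf u * k + a) (fun x => if x = 0 then a else if x ∈ orbit u 1 then k else 0) := by
  classical
  have hc : (orbit u (1 : ZMod r)).card = orderOf u := by
    rw [orbit, Finset.card_image_of_injective, Finset.card_univ, Fintype.card_fin]
    intro i j h
    simp only [mul_one, ← Units.val_pow_eq_pow_val, Units.val_inj] at h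
    exact Fin.ext (pow_injOn_Iio_orderOf i.2 j.2 h)
  refine ⟨?_, fun x => ?_⟩
  · rw [Finset.sum_ite, Finset.filter_eq', if_pos (Finset.mem_univ _), Finset.sum_singleton, Finset.sum_ite_mem,
      Finset.sum_const, smul_eq_mul]
    rw [Finset.inter_eq_right.2 (fun y hy => by
      rw [Finset.mem_filter]
      obtain ⟨j, rfl⟩ := mem_orbit.1 hy
      exact ⟨Finset.mem_univ _, by rw [mul_one]; exact pow_ne_zero _ u.ne_zero⟩), hc]
    ring
  · simp only [mul_eq_zero, Units.ne_zero, false_or]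
    congr 1
    refine if_congr ?_ rfl rfl
    simp only [mem_orbit]
    constructor
    · rintro ⟨j, hj⟩
      refine ⟨j + (orderOf u - 1), ?_⟩
      have h1 : (u : ZMod r) ^ orderOf u = 1 := by
        rw [← Units.val_pow_eq_pow_val, pow_orderOf_eq_one, Units.val_one]
      have hpos := orderOf_pos u
      rw [pow_add, mul_comm ((u : ZMod r) ^ j), mul_assoc, ← hj, ← mul_assoc, ← pow_succ,
        show orderOf u - 1 + 1 = orderOf u by omega, h1, one_mul]
    · rintro ⟨j, rfl⟩
      exact ⟨j + 1, by rw [pow_succ', mul_assoc]⟩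

/-- A test element with prescribed multiplicities. -/
theorem exists_elt [Fintype F] {L : Type u} [Field L] [Algebra F L] [IsAlgClosed L] {r : ℕ} [Fact r.Prime]
    (hr1 : ¬ r ∣ Fintype.card F - 1) {ζ : L} (hζ : IsPrimitiveRoot ζ r) {uq : (ZMod r)ˣ}
    (huq : (uq : ZMod r) = (Fintype.card F : ZMod r)) {f : ZMod r → ℕ} (hf : Inv uq n f) (hf1 : f 1 ≠ 0) :
    ∃ x ∈ Cfsg.Geo.specialLinear (Fin n) F, x ^ r = 1 ∧ (∀ z : F, x.val ≠ z • (1 : Mn)) ∧
      x.val.charpoly.map (algebraMap F L) = Pm ζ f := by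
  obtain ⟨A, hA, hAp⟩ := exists_linear hζ huq uq ⟨1, (pow_one uq).symm⟩ hf
  have hd : A.det = 1 := root_one hr1 (by rw [← Matrix.det_pow, hA, Matrix.det_one])
  refine ⟨Matrix.GeneralLinearGroup.mkOfDetNeZero A (by rw [hd]; exact one_ne_zero), (sl_iff _).2 hd,
    Units.ext (by rw [Units.val_pow_eq_pow_val]; exact hA), fun z hz => ?_, hAp⟩
  change A = z • 1 at hz
  rcases Nat.eq_zero_or_pos n with h0 | h0
  · subst h0
    have := Finset.single_le_sum (f := f) (fun i _ => Nat.zero_le _) (Finset.mem_univ (1 : ZMod r))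
    rw [hf.1] at this
    omega
  · have hz1 : z = 1 := by
      refine root_one hr1 ?_
      have h1 := hA
      rw [hz, _root_.smul_pow, one_pow] at h1
      simpa using congrFun (congrFun h1 ⟨0, h0⟩) ⟨0, h0⟩
    rw [hz, hz1, one_smul, charpoly_one_map (ζ := ζ) (r := r)] at hAp
    have := congrFun (Pm_inj hζ hAp) 1
    rw [Pi.single_eq_of_ne one_ne_zero] at this
    exact hf1 this.symm

end Cfsg.Lib.Linear.FormClass
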